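import Cfsg.Agent.SpG.Congr

/-! General tools for the low-rank isomorphisms between orthogonal groups and other classical
groups: a homomorphism `ρ : S → O(Q)` with central kernel whose image has the order of `Ω(Q)`. -/

set_option autoImplicit false

namespace CL.LowIso

open Matrix Cfsg
open scoped LinearAlgebra.Projectivization commutatorElement

section Group

variable {O : Type*} [Group O]

theorem commutator_le_of_index_two {H : Subgroup O} (h2 : H.index = 2) : commutator O ≤ H := by
  have : H.Normal := Subgroup.normal_of_index_eq_two h2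
  have : Fact (Nat.Prime 2) := ⟨Nat.prime_two⟩
  rw [← Subgroup.Normal.quotient_commutative_iff_commutator_le]
  have : IsCyclic (O ⧸ H) := isCyclic_of_prime_card (p := 2) h2
  infer_instance

theorem commutator_eq_of_index_four (H K : Subgroup O) [K.Normal]
    (hK : commutator O ≤ K) (hKtop : K ≠ ⊤) (hH : H ≤ ⁅K, K⁆) (h4 : H.index = 4) :
    commutator O = H := by
  have hHO : H ≤ commutator O := hH.trans (Subgroup.commutator_mono le_top le_top)
  have hHK : H ≤ K := hHO.trans hK
  have hmul : H.relIndex K * K.index = 4 := by rw [Subgroup.relIndex_mul_index hHK, h4]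
  have hK1 : K.index ≠ 1 := fun h => hKtop (Subgroup.index_eq_one.1 h)
  have hdvd : K.index ∣ 2 ^ 2 := Dvd.intro_left _ hmul
  obtain ⟨i, hi, hKi⟩ := (Nat.dvd_prime_pow Nat.prime_two).1 hdvd
  refine le_antisymm ?_ hHO
  interval_cases i
  · exact absurd hKi hK1
  · have hK2 : K.index = 2 := hKi
    have hrel : (H.subgroupOf K).index = 2 := by
      rw [hK2] at hmul
      change H.relIndex K = 2
      omega
    have h1 : ⁅K, K⁆ ≤ H := by
      rw [Subgroup.commutator_le]
      intro a ha b hb
      exact commutator_le_of_index_two hrel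
        (Subgroup.commutator_mem_commutator (Subgroup.mem_top (⟨a, ha⟩ : K))
          (Subgroup.mem_top (⟨b, hb⟩ : K)))
    have hHn : H.Normal := by
      rw [le_antisymm hH h1]
      infer_instance
    have : Fact (Nat.Prime 2) := ⟨Nat.prime_two⟩
    rw [← Subgroup.Normal.quotient_commutative_iff_commutator_le]
    exact IsPGroup.isMulCommutative_of_card_eq_prime_sq (p := 2) h4
  · have hK4 : K.index = 4 := hKi
    have hrel : H.relIndex K = 1 := by rw [hK4] at hmul; omega
    rw [Subgroup.relIndex_eq_one] at hrel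
    exact hK.trans hrel

theorem mem_commutator_of_inverted {F : Type*} [Field F] (h2 : (2 : F) ≠ 0) (K : Subgroup O)
    (hK : commutator O ≤ K) {d : O} (hd : d ∈ K) (t : F → O)
    (hadd : ∀ c, t (c + c) = t c * t c) (hinv : ∀ c, d * t c * d⁻¹ = (t c)⁻¹) (c : F) :
    t c ∈ ⁅K, K⁆ := by
  have key : ∀ c, t c = ⁅d, (t (c / 2))⁻¹⁆ := by
    intro c
    have h4 : c = c / 2 + c / 2 := by field_simp; ring
    have h5 : d * (t (c / 2))⁻¹ * d⁻¹ = t (c / 2) := by
      have h6 : d * (t (c / 2))⁻¹ * d⁻¹ = (d * t (c / 2) * d⁻¹)⁻¹ := by group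
      rw [h6, hinv, inv_inv]
    rw [commutatorElement_def, h5, inv_inv, ← hadd, ← h4]
  have h1 : ∀ c, t c ∈ K := fun c => hK (by
    rw [key]
    exact Subgroup.commutator_mem_commutator (Subgroup.mem_top _) (Subgroup.mem_top _))
  rw [key]
  exact Subgroup.commutator_mem_commutator hd (K.inv_mem (h1 _))

theorem range_le_commutator_of_perfect {S : Type*} [Group S] (hS : commutator S = ⊤)
    (ρ : S →* O) (K : Subgroup O) (hK : commutator O ≤ K) : ρ.range ≤ ⁅K, K⁆ := by
  have h1 : ρ.range = ⁅ρ.range, ρ.range⁆ := by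
    rw [MonoidHom.range_eq_map, ← Subgroup.map_commutator, ← _root_.commutator_def, hS]
  have h2 : ρ.range ≤ K := by
    rw [h1]
    exact (Subgroup.commutator_mono le_top le_top).trans hK
  rw [h1]
  exact Subgroup.commutator_mono h2 h2

/-- A surjection with central kernel induces an isomorphism of the central quotients, provided the
central quotient of the source is centreless. -/
theorem nonempty_quot_center_equiv {S H : Type*} [Group S] [Group H] (f : S →* H)
    (hf : Function.Surjective f) (hker : f.ker ≤ Subgroup.center S)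
    (hZ : Subgroup.center (S ⧸ Subgroup.center S) = ⊥) :
    Nonempty (H ⧸ Subgroup.center H ≃* S ⧸ Subgroup.center S) := by
  let g : S →* H ⧸ Subgroup.center H := (QuotientGroup.mk' _).comp f
  have hg : Function.Surjective g := (QuotientGroup.mk'_surjective _).comp hf
  have hk : g.ker = Subgroup.center S := by
    ext s
    rw [MonoidHom.mem_ker]
    change ((f s : H) : H ⧸ Subgroup.center H) = 1 ↔ _
    rw [QuotientGroup.eq_one_iff]
    constructor
    · intro h
      rw [← QuotientGroup.eq_one_iff, ← Subgroup.mem_bot, ← hZ, Subgroup.mem_center_iff]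
      intro x
      obtain ⟨x, rfl⟩ := QuotientGroup.mk_surjective x
      rw [← QuotientGroup.mk_mul, ← QuotientGroup.mk_mul, QuotientGroup.eq]
      apply hker
      rw [MonoidHom.mem_ker, map_mul, map_inv, map_mul, map_mul,
        Subgroup.mem_center_iff.1 h (f x), inv_mul_cancel]
    · intro h
      rw [Subgroup.mem_center_iff] at h ⊢
      intro y
      obtain ⟨y, rfl⟩ := hf y
      rw [← map_mul, ← map_mul, h]
  exact ⟨(QuotientGroup.quotientKerEquivOfSurjective g hg).symm.trans
    (QuotientGroup.quotientMulEquivOfEq hk)⟩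

theorem index_range_eq {S : Type*} [Group S] [Finite S] (ρ : S →* O)
    (hcard : Nat.card O = 2 * Nat.card S) : ρ.range.index = 2 * Nat.card ρ.ker := by
  have c4 := Subgroup.card_mul_index ρ.range
  have c5 := Subgroup.card_eq_card_quotient_mul_card_subgroup ρ.ker
  have c6 : Nat.card (S ⧸ ρ.ker) = Nat.card ρ.range :=
    Nat.card_congr (QuotientGroup.quotientKerEquivRange ρ).toEquiv
  have : Finite ρ.range := Finite.of_surjective _ ρ.rangeRestrict_surjective
  have hpos : 0 < Nat.card ρ.range := Nat.card_pos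
  apply Nat.eq_of_mul_eq_mul_left hpos
  rw [c4, hcard, c5, c6]
  ring

theorem card_eq_two_of_mem_iff {S : Type*} [Group S] {H : Subgroup S} {z : S} (hz : z ≠ 1)
    (h : ∀ s, s ∈ H ↔ s = 1 ∨ s = z) : Nat.card H = 2 := by
  have hc : (H : Set S) = {1, z} := by
    ext A
    simp [h]
  rw [← SetLike.coe_sort_coe, hc, Nat.card_coe_set_eq, Set.ncard_pair hz.symm]

end Group

section PSL

variable {ι F : Type*} [Fintype ι] [DecidableEq ι] [Field F]

theorem center_psl_eq_bot :
    Subgroup.center (Matrix.ProjectiveSpecialLinearGroup ι F) = ⊥ := by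
  rw [eq_bot_iff]
  intro z hz
  obtain ⟨A, rfl⟩ := QuotientGroup.mk_surjective z
  rw [Subgroup.mem_bot, QuotientGroup.eq_one_iff]
  have h1 : ∀ (i j : ι) (hij : i ≠ j),
      A * Matrix.SpecialLinearGroup.transvection hij (1 : F) =
        Matrix.SpecialLinearGroup.transvection hij (1 : F) * A := by
    intro i j hij
    have h := Subgroup.mem_center_iff.1 hz
      (QuotientGroup.mk (Matrix.SpecialLinearGroup.transvection hij (1 : F)))
    rw [← QuotientGroup.mk_mul, ← QuotientGroup.mk_mul, QuotientGroup.eq,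
      Matrix.SpecialLinearGroup.mem_center_iff] at h
    obtain ⟨r, -, hr⟩ := h
    set T := Matrix.SpecialLinearGroup.transvection hij (1 : F) with hT
    have h2 : (A * T * A⁻¹).1 = r • T.1 := by
      have h3 : A * T = (T * A) * ((T * A)⁻¹ * (A * T)) := by group
      have h4 : (A * T).1 = r • (T * A).1 := by
        rw [h3, Matrix.SpecialLinearGroup.coe_mul (T * A), ← hr]
        simp [Matrix.scalar_apply, Matrix.smul_eq_mul_diagonal]
      rw [Matrix.SpecialLinearGroup.coe_mul, h4, Matrix.smul_mul,
        ← Matrix.SpecialLinearGroup.coe_mul, mul_inv_cancel_right]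
    have h5 : (T.1 - 1) * (T.1 - 1) = 0 := by
      simp [hT, Matrix.SpecialLinearGroup.transvection_coe,
        Matrix.single_mul_single_of_ne _ _ _ _ hij.symm]
    have hAi : A.1 * (A⁻¹).1 = 1 := congrArg Subtype.val (mul_inv_cancel A)
    have hiA : (A⁻¹).1 * A.1 = 1 := congrArg Subtype.val (inv_mul_cancel A)
    have h6 : (r • T.1 - 1) * (r • T.1 - 1) = 0 := by
      have h7 : r • T.1 - 1 = A.1 * (T.1 - 1) * (A⁻¹).1 := by
        rw [← h2, Matrix.mul_sub, Matrix.sub_mul, Matrix.mul_one, hAi]
        rfl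
      rw [h7, Matrix.mul_assoc, Matrix.mul_assoc, ← Matrix.mul_assoc (A⁻¹).1,
        ← Matrix.mul_assoc (A⁻¹).1, hiA, Matrix.one_mul, ← Matrix.mul_assoc (T.1 - 1), h5]
      simp
    have h8 : r = 1 := by
      have h9 : r • T.1 - 1 = (r - 1) • (1 : Matrix ι ι F) + r • Matrix.single i j (1 : F) := by
        rw [hT, Matrix.SpecialLinearGroup.transvection_coe, smul_add, sub_smul, one_smul]
        abel
      rw [h9] at h6
      have h10 := congrFun (congrFun h6 j) j
      simp [Matrix.add_mul, Matrix.mul_add, Matrix.single_mul_single_of_ne _ _ _ _ hij.symm,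
        hij] at h10
      exact sub_eq_zero.1 h10
    rw [h8, one_smul] at h2
    exact mul_inv_eq_iff_eq_mul.1 (Subtype.ext h2)
  have h2 : ∀ i j, i ≠ j → A.1 * Matrix.single i j (1 : F) = Matrix.single i j (1 : F) * A.1 := by
    intro i j hij
    have := congrArg Subtype.val (h1 i j hij)
    simpa [Matrix.SpecialLinearGroup.transvection_coe, Matrix.mul_add, Matrix.add_mul] using this
  obtain ⟨r, hr⟩ := Matrix.mem_range_scalar_of_commute_single (M := A.1)
    (fun i j hij => (h2 i j hij).symm)
  rw [Subgroup.mem_center_iff]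
  intro B
  apply Subtype.ext
  simp [← hr, Matrix.scalar_apply, ← Matrix.smul_eq_mul_diagonal, ← Matrix.smul_eq_diagonal_mul]

theorem diagNeg_mul_transvection {i j : Fin 2} (hij : i ≠ j) (c : F) :
    !![-1, 0; 0, 1] * (Matrix.SpecialLinearGroup.transvection hij c).1 =
      (Matrix.SpecialLinearGroup.transvection hij (-c)).1 * !![-1, 0; 0, 1] := by
  simp only [Matrix.SpecialLinearGroup.transvection_coe]
  ext a b
  fin_cases i <;> fin_cases j <;> simp at hij <;> fin_cases a <;> fin_cases b <;>
    simp [Matrix.mul_apply, Fin.sum_univ_two, Matrix.one_apply]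

theorem transvection_mul_diagNeg {i j : Fin 2} (hij : i ≠ j) (c : F) :
    (Matrix.SpecialLinearGroup.transvection hij c).1 * !![-1, 0; 0, 1] =
      !![-1, 0; 0, 1] * (Matrix.SpecialLinearGroup.transvection hij (-c)).1 := by
  rw [diagNeg_mul_transvection, neg_neg]

theorem mem_center_sl_of_commute_single {A : Matrix.SpecialLinearGroup ι F}
    (h : ∀ i j, i ≠ j → A.1 * Matrix.single i j (1 : F) = Matrix.single i j (1 : F) * A.1) :
    A ∈ Subgroup.center (Matrix.SpecialLinearGroup ι F) := by
  obtain ⟨r, hr⟩ := Matrix.mem_range_scalar_of_commute_single (M := A.1)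
    (fun i j hij => (h i j hij).symm)
  rw [Subgroup.mem_center_iff]
  intro B
  apply Subtype.ext
  simp [← hr, Matrix.scalar_apply, ← Matrix.smul_eq_mul_diagonal, ← Matrix.smul_eq_diagonal_mul]

end PSL

section Rho

variable {ι : Type} [Fintype ι] [DecidableEq ι] {F : Type*} [Field F]
  {M : Type*} [AddCommGroup M] [Module F M] {S : Type*} [Group S]

/-- The data of a linear action of `S` on an ambient space `M` that leaves invariant the image of
an embedding `c` of the quadratic space, and preserves the form. -/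
structure RhoData (ι : Type) (F : Type*) [Field F] (M : Type*) [AddCommGroup M] [Module F M]
    (S : Type*) [Group S] (Q : (ι → F) → F) where
  c : (ι → F) →ₗ[F] M
  d : M →ₗ[F] (ι → F)
  σ : S →* Module.End F M
  d_c : ∀ v, d (c v) = v
  c_d : ∀ s v, c (d (σ s (c v))) = σ s (c v)
  quad : ∀ s v, Q (d (σ s (c v))) = Q v

variable {Q : (ι → F) → F} (D : RhoData ι F M S Q)

/-- The induced homomorphism to matrices. -/
noncomputable def RhoData.mat : S →* Matrix ι ι F where
  toFun s := LinearMap.toMatrix' (D.d ∘ₗ D.σ s ∘ₗ D.c)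
  map_one' := by
    rw [Matrix.ext_iff_mulVec]
    intro v
    simp [LinearMap.toMatrix'_mulVec, D.d_c]
  map_mul' s t := by
    rw [Matrix.ext_iff_mulVec]
    intro v
    rw [← Matrix.mulVec_mulVec]
    simp [LinearMap.toMatrix'_mulVec, D.c_d]

theorem RhoData.mat_mulVec (s : S) (v : ι → F) : D.mat s *ᵥ v = D.d (D.σ s (D.c v)) := by
  simp [RhoData.mat, LinearMap.toMatrix'_mulVec]

/-- The induced homomorphism to the isometry group. -/
noncomputable def RhoData.rho : S →* isometryGroup F Q :=
  D.mat.toHomUnits.codRestrict _ fun s v _ => by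
    change Q (D.mat s *ᵥ v) = Q v
    rw [D.mat_mulVec, D.quad]

theorem RhoData.rho_mulVec (s : S) (v : ι → F) :
    (D.rho s).1.1 *ᵥ v = D.d (D.σ s (D.c v)) := D.mat_mulVec s v

theorem RhoData.c_rho (s : S) (v : ι → F) : D.c ((D.rho s).1.1 *ᵥ v) = D.σ s (D.c v) := by
  rw [D.rho_mulVec, D.c_d]

omit [Fintype ι] [DecidableEq ι] in
theorem RhoData.c_injective : Function.Injective D.c :=
  Function.LeftInverse.injective D.d_c

omit D in
theorem isom_ext {g h : isometryGroup F Q} (e : ∀ v, g.1.1 *ᵥ v = h.1.1 *ᵥ v) : g = h :=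
  Subtype.ext (Units.ext (Matrix.ext_iff_mulVec.2 e))

theorem RhoData.mem_ker_iff (s : S) : s ∈ D.rho.ker ↔ ∀ v, D.σ s (D.c v) = D.c v := by
  rw [MonoidHom.mem_ker]
  constructor
  · intro h v
    rw [← D.c_rho, h]
    simp
  · intro h
    apply isom_ext
    intro v
    rw [D.rho_mulVec, h, D.d_c]
    simp

theorem RhoData.mul_rho_eq (g : isometryGroup F Q) (τ : M → M)
    (hτ : ∀ v, D.c (g.1.1 *ᵥ v) = τ (D.c v)) (s s' : S)
    (h : ∀ X, τ (D.σ s X) = D.σ s' (τ X)) : g * D.rho s = D.rho s' * g := by
  apply isom_ext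
  intro v
  apply D.c_injective
  change D.c ((g.1.1 * (D.rho s).1.1) *ᵥ v) = D.c (((D.rho s').1.1 * g.1.1) *ᵥ v)
  rw [← Matrix.mulVec_mulVec, ← Matrix.mulVec_mulVec, hτ, D.c_rho, D.c_rho, hτ, h]

omit D in
/-- An involutory matrix preserving `Q`, as an element of the isometry group. -/
def involIsom (N : Matrix ι ι F) (hN : N * N = 1) (hQ : ∀ v, Q (N *ᵥ v) = Q v) :
    isometryGroup F Q :=
  ⟨⟨N, N, hN, hN⟩, fun v _ => hQ v⟩

omit D in
theorem involIsom_val (N : Matrix ι ι F) (hN : N * N = 1) (hQ : ∀ v, Q (N *ᵥ v) = Q v) :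
    (involIsom N hN hQ).1.1 = N := rfl

omit D in
theorem exists_det_ne_one_of_swap (h2 : (2 : F) ≠ 0) {i j : ι} (hij : i ≠ j)
    (hQ : ∀ v : ι → F, Q (v ∘ Equiv.swap i j) = Q v) :
    ∃ g : isometryGroup F Q, g.1.1.det ≠ 1 := by
  refine ⟨involIsom ((Equiv.swap i j).permMatrix F) ?_ ?_, ?_⟩
  · rw [← Matrix.permMatrix_mul, Equiv.swap_mul_self, Matrix.permMatrix_one]
  · intro v
    rw [Matrix.permMatrix_mulVec, hQ]
  · rw [involIsom_val, Matrix.det_permutation, Equiv.Perm.sign_swap hij]
    intro h
    apply h2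
    simp only [Units.val_neg, Units.val_one, Int.reduceNeg, Int.cast_neg, Int.cast_one] at h
    linear_combination -h

omit D in
theorem commutator_le_special : commutator (isometryGroup F Q) ≤ specialIsometryGroup F Q :=
  Abelianization.commutator_subset_ker _

omit D in
theorem special_normal : (specialIsometryGroup F Q).Normal := MonoidHom.normal_ker _

omit D in
theorem mem_special_iff (g : isometryGroup F Q) : g ∈ specialIsometryGroup F Q ↔ g.1.1.det = 1 := by
  rw [specialIsometryGroup, MonoidHom.mem_ker, Units.ext_iff]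
  rfl

omit D in
/-- The odd-characteristic case: `Ω` is the image of `ρ`. -/
theorem omega_eq_range_odd [Finite S] (ρ : S →* isometryGroup F Q)
    (hcard : Nat.card (isometryGroup F Q) = 2 * Nat.card S) (hker : Nat.card ρ.ker = 2)
    (hdet : ∃ g : isometryGroup F Q, g.1.1.det ≠ 1)
    (hle : ρ.range ≤ ⁅specialIsometryGroup F Q, specialIsometryGroup F Q⁆) :
    Omega F Q = ρ.range := by
  have := special_normal (Q := Q)
  refine commutator_eq_of_index_four _ _ commutator_le_special ?_ hle ?_
  · intro h
    obtain ⟨g, hg⟩ := hdet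
    exact hg ((mem_special_iff g).1 (h ▸ Subgroup.mem_top g))
  · rw [index_range_eq ρ hcard, hker]

omit D in
/-- The characteristic-two case: `Ω` is the image of `ρ`. -/
theorem omega_eq_range_even [Finite S] (ρ : S →* isometryGroup F Q)
    (hcard : Nat.card (isometryGroup F Q) = 2 * Nat.card S) (hker : ρ.ker = ⊥)
    (hperf : commutator S = ⊤) : Omega F Q = ρ.range := by
  apply le_antisymm
  · apply commutator_le_of_index_two
    rw [index_range_eq ρ hcard, hker, Subgroup.card_bot]
  · exact range_le_commutator_of_perfect hperf ρ ⊤ le_top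

omit D in
theorem nonempty_pomega_equiv (ρ : S →* isometryGroup F Q) (hOm : Omega F Q = ρ.range)
    (hker : ρ.ker ≤ Subgroup.center S) (hZ : Subgroup.center (S ⧸ Subgroup.center S) = ⊥) :
    Nonempty (POmega F Q ≃* S ⧸ Subgroup.center S) := by
  obtain ⟨e⟩ := nonempty_quot_center_equiv ρ.rangeRestrict ρ.rangeRestrict_surjective
    (by rwa [MonoidHom.ker_rangeRestrict]) hZ
  exact ⟨(CL.SpG.quotCenterCongr (MulEquiv.subgroupCongr hOm)).trans e⟩

end Rho

section Char

variable {F : Type*} [Field F]

theorem two_ne_zero_of_odd_card [Fintype F] (hodd : Odd (Fintype.card F)) : (2 : F) ≠ 0 := by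
  intro h2
  have : CharP F 2 := (CharP.charP_iff_prime_eq_zero Nat.prime_two).2 (by exact_mod_cast h2)
  have heven : Fintype.card F % 2 = 0 := FiniteField.even_card_of_char_two (ringChar.eq F 2)
  rw [Nat.odd_iff] at hodd
  omega

theorem even_card_of_two_eq_zero [Fintype F] (h2 : (2 : F) = 0) : Fintype.card F % 2 = 0 := by
  have : CharP F 2 := (CharP.charP_iff_prime_eq_zero Nat.prime_two).2 (by exact_mod_cast h2)
  exact FiniteField.even_card_of_char_two (ringChar.eq F 2)

theorem neg_one_ne_one_of_two (h2 : (2 : F) ≠ 0) : (-1 : F) ≠ 1 := fun h =>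
  h2 (by linear_combination -h)

end Char

end CL.LowIso
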