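import Cfsg.Agent.LowIso.Tools
import Cfsg.Agent.Lin.Gen

/-! The action of `SL_4` on alternating `4 × 4` matrices (Klein correspondence). -/

set_option autoImplicit false

namespace CL.LowIso.L2

open Matrix Cfsg

variable {F : Type*} [Field F]

/-- Alternating matrices. -/
def emb : (Fin 3 ⊕ Fin 3 → F) →ₗ[F] Matrix (Fin 4) (Fin 4) F where
  toFun v := !![0, v (.inl 0), v (.inl 1), v (.inl 2);
    - v (.inl 0), 0, v (.inr 2), - v (.inr 1);
    - v (.inl 1), - v (.inr 2), 0, v (.inr 0);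
    - v (.inl 2), v (.inr 1), - v (.inr 0), 0]
  map_add' u v := by
    ext i j
    fin_cases i <;> fin_cases j <;> simp [add_comm]
  map_smul' c v := by
    ext i j
    fin_cases i <;> fin_cases j <;> simp

theorem emb_apply (v : Fin 3 ⊕ Fin 3 → F) :
    emb v = !![0, v (.inl 0), v (.inl 1), v (.inl 2);
    - v (.inl 0), 0, v (.inr 2), - v (.inr 1);
    - v (.inl 1), - v (.inr 2), 0, v (.inr 0);
    - v (.inl 2), v (.inr 1), - v (.inr 0), 0] := rfl

/-- Coordinates. -/
def crd : Matrix (Fin 4) (Fin 4) F →ₗ[F] (Fin 3 ⊕ Fin 3 → F) where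
  toFun Z := Sum.elim ![Z 0 1, Z 0 2, Z 0 3] ![Z 2 3, Z 3 1, Z 1 2]
  map_add' Z W := by
    funext i
    rcases i with i | i <;> fin_cases i <;> simp
  map_smul' c Z := by
    funext i
    rcases i with i | i <;> fin_cases i <;> simp

theorem crd_apply (Z : Matrix (Fin 4) (Fin 4) F) :
    crd Z = Sum.elim ![Z 0 1, Z 0 2, Z 0 3] ![Z 2 3, Z 3 1, Z 1 2] := rfl

theorem crd_emb (v : Fin 3 ⊕ Fin 3 → F) : crd (emb v) = v := by
  funext i
  rcases i with i | i <;> fin_cases i <;> simp [emb_apply, crd_apply]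

theorem congr_apply (A : Matrix (Fin 4) (Fin 4) F) (v : Fin 3 ⊕ Fin 3 → F) (i j : Fin 4) :
    (A * emb v * Aᵀ) i j =
      v (.inl 0) * (A i 0 * A j 1 - A i 1 * A j 0) + v (.inl 1) * (A i 0 * A j 2 - A i 2 * A j 0)
      + v (.inl 2) * (A i 0 * A j 3 - A i 3 * A j 0) + v (.inr 0) * (A i 2 * A j 3 - A i 3 * A j 2)
      + v (.inr 1) * (A i 3 * A j 1 - A i 1 * A j 3)
      + v (.inr 2) * (A i 1 * A j 2 - A i 2 * A j 1) := by
  simp [emb_apply, Matrix.mul_apply, Fin.sum_univ_four]
  ring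

theorem emb_crd (Z : Matrix (Fin 4) (Fin 4) F) (h0 : ∀ i, Z i i = 0) (h : ∀ i j, Z j i = - Z i j) :
    emb (crd Z) = Z := by
  ext i j
  fin_cases i <;> fin_cases j <;> simp [emb_apply, crd_apply, h0] <;> rw [h, neg_neg]

theorem emb_crd_congr (A : Matrix (Fin 4) (Fin 4) F) (v : Fin 3 ⊕ Fin 3 → F) :
    emb (crd (A * emb v * Aᵀ)) = A * emb v * Aᵀ := by
  apply emb_crd
  · intro i
    rw [congr_apply]; ring
  · intro i j
    rw [congr_apply, congr_apply]; ring

theorem quad_congr (A : Matrix (Fin 4) (Fin 4) F) (v : Fin 3 ⊕ Fin 3 → F) :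
    quadFormPlus 3 F (crd (A * emb v * Aᵀ)) = A.det * quadFormPlus 3 F v := by
  simp only [quadFormPlus, crd_apply, Fin.sum_univ_three, Sum.elim_inl, Sum.elim_inr,
    Matrix.cons_val_zero, Matrix.cons_val_one, Matrix.cons_val, congr_apply]
  simp [Matrix.det_succ_row_zero, Fin.sum_univ_succ, Fin.succAbove]
  ring

/-- Congruence action. -/
def sig : Matrix.SpecialLinearGroup (Fin 4) F →* Module.End F (Matrix (Fin 4) (Fin 4) F) where
  toFun A := (LinearMap.mulRight F A.1ᵀ) ∘ₗ (LinearMap.mulLeft F A.1)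
  map_one' := by ext1 X; simp
  map_mul' A B := by
    ext1 X
    simp [Matrix.mul_assoc]

theorem sig_apply (A : Matrix.SpecialLinearGroup (Fin 4) F) (X : Matrix (Fin 4) (Fin 4) F) :
    sig A X = A.1 * X * A.1ᵀ := rfl

/-- The data of the homomorphism `SL_4 → O_6^+`. -/
def dat (F : Type*) [Field F] : RhoData (Fin 3 ⊕ Fin 3) F (Matrix (Fin 4) (Fin 4) F)
    (Matrix.SpecialLinearGroup (Fin 4) F) (quadFormPlus 3 F) where
  c := emb
  d := crd
  σ := sig
  d_c := crd_emb
  c_d A v := emb_crd_congr A.1 v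
  quad A v := by rw [sig_apply, quad_congr, A.2, one_mul]

theorem mem_ker_rho (A : Matrix.SpecialLinearGroup (Fin 4) F) :
    A ∈ (dat F).rho.ker ↔ A = 1 ∨ A = slNegOne 4 (by decide) F := by
  constructor
  · intro hA
    have hs : IsSimpleGroup (Matrix.SpecialLinearGroup (Fin 4) F ⧸ Subgroup.center _) :=
      CL.Lin.PSL_simple (by simp)
    rcases normal_le_center_or_eq_top (CL.Lin.SL_commutator_eq_top (by simp)) (dat F).rho.ker
      with h | h
    · obtain ⟨r, -, hr⟩ := Matrix.SpecialLinearGroup.mem_center_iff.1 (h hA)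
      refine eq_one_or_slNegOne 4 _ hr ?_
      have h1 : sig A (emb (Pi.single (.inl 0) 1)) = emb (Pi.single (.inl 0) 1) :=
        ((dat F).mem_ker_iff A).1 hA _
      have h2 := congrFun (congrFun h1 0) 1
      rw [sig_apply, congr_apply, ← hr] at h2
      simpa [emb_apply] using h2
    · exfalso
      have h01 : (0 : Fin 4) ≠ 1 := by decide
      have h1 : sig (Matrix.SpecialLinearGroup.transvection h01 (1 : F))
          (emb (Pi.single (.inr 2) 1)) = emb (Pi.single (.inr 2) 1) :=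
        ((dat F).mem_ker_iff _).1 (h ▸ Subgroup.mem_top _) _
      have h2 := congrFun (congrFun h1 0) 2
      rw [sig_apply, congr_apply] at h2
      simp [emb_apply, Matrix.SpecialLinearGroup.transvection_coe] at h2
  · rintro (rfl | rfl)
    · exact one_mem _
    · rw [RhoData.mem_ker_iff]
      intro v
      change sig _ _ = emb v
      rw [sig_apply, slNegOne_val]
      simp
      rfl

end CL.LowIso.L2
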