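import Cfsg.Agent.LowIso.Tools

/-! The quadratic extension attached to an anisotropic binary form `z₁² + a z₁ z₂ + b z₂²`. -/

set_option autoImplicit false

namespace CL.LowIso

/-- The quadratic algebra whose norm form is `z₁² + a z₁ z₂ + b z₂²`. -/
abbrev QA {F : Type*} [Field F] (a b : F) : Type _ := QuadraticAlgebra F (-b) a

variable {F : Type*} [Field F] {a b : F}

theorem fact_of_aniso
    (hab : ∀ z₁ z₂ : F, z₁ ^ 2 + a * z₁ * z₂ + b * z₂ ^ 2 = 0 → z₁ = 0 ∧ z₂ = 0) :
    Fact (∀ r : F, r ^ 2 ≠ -b + a * r) :=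
  ⟨fun r h => one_ne_zero (neg_eq_zero.1 (hab r (-1) (by linear_combination h)).2)⟩

theorem qa_norm (z : QA a b) :
    QuadraticAlgebra.norm z = z.re ^ 2 + a * z.re * z.im + b * z.im ^ 2 := by
  rw [QuadraticAlgebra.norm_def]; ring

theorem qa_two_eq_zero_iff : (2 : QA a b) = 0 ↔ (2 : F) = 0 := by
  rw [← map_ofNat (algebraMap F (QA a b)) 2, ← map_zero (algebraMap F (QA a b)),
    QuadraticAlgebra.algebraMap_inj]

theorem qa_finite [Finite F] : Finite (QA a b) :=
  Finite.of_equiv _ (QuadraticAlgebra.equivProd (-b) a).symm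

theorem qa_card [Fintype F] [Fintype (QA a b)] : Fintype.card (QA a b) = Fintype.card F ^ 2 := by
  rw [Fintype.card_congr (QuadraticAlgebra.equivProd (-b) a), Fintype.card_prod, sq]

end CL.LowIso
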