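import Cfsg.Agent.LowIso.Basic

/-! The perfect case of the low-rank isomorphism criterion. -/

set_option autoImplicit false

namespace CL.LowIso

open Matrix Cfsg

theorem normal_le_center_or_eq_top {S : Type*} [Group S] (hperf : commutator S = ⊤)
    [IsSimpleGroup (S ⧸ Subgroup.center S)] (N : Subgroup S) [hN : N.Normal] :
    N ≤ Subgroup.center S ∨ N = ⊤ := by
  rcases (hN.map (QuotientGroup.mk' (Subgroup.center S))
    (QuotientGroup.mk'_surjective _)).eq_bot_or_eq_top with h | h
  · left
    rwa [Subgroup.map_eq_bot_iff, QuotientGroup.ker_mk'] at h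
  · right
    have h1 : N ⊔ Subgroup.center S = ⊤ := by
      have := congrArg (Subgroup.comap (QuotientGroup.mk' (Subgroup.center S))) h
      rwa [Subgroup.comap_map_eq, QuotientGroup.ker_mk', Subgroup.comap_top] at this
    rw [eq_top_iff, ← hperf]
    exact hN.commutator_le_of_self_sup_commutative_eq_top h1 inferInstance

variable {ι : Type} [Fintype ι] [DecidableEq ι] {F : Type*} [Field F] {S : Type*} [Group S]
  {Q : (ι → F) → F}

theorem nonempty_pomega_equiv_of_perfect [Finite S] (ρ : S →* isometryGroup F Q)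
    (hperf : commutator S = ⊤) (hcard : Nat.card (isometryGroup F Q) = 2 * Nat.card S)
    (z : S) (hz : z ∈ Subgroup.center S) (hker : ∀ s, s ∈ ρ.ker ↔ s = 1 ∨ s = z)
    (hz2 : z = 1 ↔ (2 : F) = 0) {i j : ι} (hij : i ≠ j)
    (hQ : ∀ v : ι → F, Q (v ∘ Equiv.swap i j) = Q v) :
    Nonempty (POmega F Q ≃* S ⧸ Subgroup.center S) := by
  have : Group.IsPerfect S := ⟨hperf⟩
  refine nonempty_pomega_equiv ρ ?_ ?_ (Group.IsPerfect.center_quotient_center_eq_bot S)
  · by_cases h2 : (2 : F) = 0
    · refine omega_eq_range_even ρ hcard ?_ hperf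
      rw [eq_bot_iff]
      intro s hs
      rcases (hker s).1 hs with h | h
      · exact h
      · exact h.trans (hz2.2 h2)
    · exact omega_eq_range_odd ρ hcard (card_eq_two_of_mem_iff (fun h => h2 (hz2.1 h)) hker)
        (exists_det_ne_one_of_swap h2 hij hQ)
        (range_le_commutator_of_perfect hperf ρ _ commutator_le_special)
  · intro s hs
    rcases (hker s).1 hs with rfl | rfl
    · exact one_mem _
    · exact hz

/-- The scalar matrix `-1` in `SL_n`, `n` even. -/
def slNegOne (n : ℕ) (hn : Even n) (K : Type*) [CommRing K] :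
    Matrix.SpecialLinearGroup (Fin n) K :=
  ⟨-1, by rw [Matrix.det_neg, Matrix.det_one, Fintype.card_fin, hn.neg_one_pow, one_mul]⟩

theorem slNegOne_val (n : ℕ) (hn : Even n) (K : Type*) [CommRing K] :
    (slNegOne n hn K).1 = -1 := rfl

theorem slNegOne_mem_center (n : ℕ) (hn : Even n) (K : Type*) [CommRing K] :
    slNegOne n hn K ∈ Subgroup.center _ := by
  rw [Subgroup.mem_center_iff]
  intro g
  apply Subtype.ext
  simp [slNegOne_val]

theorem slNegOne_eq_one_iff (n : ℕ) (hn : Even n) (h0 : 0 < n) (K : Type*) [CommRing K] :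
    slNegOne n hn K = 1 ↔ (2 : K) = 0 := by
  constructor
  · intro h
    have h1 := congrFun (congrFun (congrArg Subtype.val h) ⟨0, h0⟩) ⟨0, h0⟩
    simp only [slNegOne_val, Matrix.neg_apply, Matrix.one_apply_eq,
      Matrix.SpecialLinearGroup.coe_one] at h1
    linear_combination -h1
  · intro h
    apply Subtype.ext
    rw [slNegOne_val, Matrix.SpecialLinearGroup.coe_one, neg_eq_iff_add_eq_zero, ← two_smul K, h,
      zero_smul]

theorem eq_one_or_slNegOne (n : ℕ) (hn : Even n) {K : Type*} [Field K]
    {A : Matrix.SpecialLinearGroup (Fin n) K} {r : K} (hr : Matrix.scalar (Fin n) r = A.1)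
    (h : r * r = 1) : A = 1 ∨ A = slNegOne n hn K := by
  rcases mul_self_eq_one_iff.1 h with rfl | rfl
  · left
    apply Subtype.ext
    rw [← hr, map_one, Matrix.SpecialLinearGroup.coe_one]
  · right
    apply Subtype.ext
    rw [← hr, map_neg, map_one, slNegOne_val]

end CL.LowIso
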